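import Groth.Agent.Easy4.GenExact
import Groth.Agent.FlatModBC.StratRing
import Mathlib

/-!
# Constructibility of the locus of exact fibres over a noetherian base
-/

set_option autoImplicit false
set_option maxSynthPendingDepth 3
set_option linter.style.haveILetI false

open TensorProduct

namespace Groth.Agent.FibExact

universe u

variable {R : Type u} [CommRing R] {F G H : Type u} [AddCommGroup F] [Module R F] [AddCommGroup G] [Module R G]
  [AddCommGroup H] [Module R H]

/-- The sequence is exact after base change to `T`. -/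
def Ex (T : Type u) [CommRing T] [Algebra R T] (u : F →ₗ[R] G) (v : G →ₗ[R] H) : Prop :=
  Function.Exact (u.baseChange T) (v.baseChange T)

theorem ex_baseChange {S T : Type u} [CommRing S] [CommRing T] [Algebra R S] [Algebra R T] [Algebra S T]
    [IsScalarTower R S T] (u : F →ₗ[R] G) (v : G →ₗ[R] H) :
    Ex T (u.baseChange S) (v.baseChange S) ↔ Ex T u v := by
  refine (Function.Exact.iff_of_ladder_linearEquiv
    (e₁ := AlgebraTensorModule.cancelBaseChange R S T T F) (e₂ := AlgebraTensorModule.cancelBaseChange R S T T G)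
    (e₃ := AlgebraTensorModule.cancelBaseChange R S T T H) (LinearMap.ext fun y => ?_) (LinearMap.ext fun y => ?_)).symm
  · exact (Easy4.GenExact.cancel_natural u y).symm
  · exact (Easy4.GenExact.cancel_natural v y).symm

/-- Exactness does not depend on the field extension. -/
theorem ex_field {k T : Type u} [Field k] [Field T] [Algebra R k] [Algebra R T] [Algebra k T] [IsScalarTower R k T]
    (u : F →ₗ[R] G) (v : G →ₗ[R] H) : Ex T u v ↔ Ex k u v := by
  rw [← ex_baseChange (S := k)]
  exact Module.FaithfullyFlat.lTensor_exact_iff_exact k T (u.baseChange k) (v.baseChange k)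

theorem exists_tmul_ne_zero {M : Type u} [AddCommGroup M] [Module R M] [Module.Free R M] {x : M} (hx : x ≠ 0) :
    ∃ a : R, a ≠ 0 ∧ ∀ (T : Type u) [CommRing T] [Nontrivial T] [Algebra R T],
      IsUnit (algebraMap R T a) → (1 : T) ⊗ₜ[R] x ≠ 0 := by
  let b := Module.Free.chooseBasis R M
  obtain ⟨i, hi⟩ : ∃ i, b.repr x i ≠ 0 := by
    by_contra! hc
    exact hx (b.repr.map_eq_zero_iff.1 (Finsupp.ext hc))
  refine ⟨b.repr x i, hi, fun T _ _ _ hu h => hu.ne_zero ?_⟩
  have h1 := congr(($(congrArg (b.baseChange T).repr h)) i)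
  simpa [Algebra.algebraMap_eq_smul_one] using h1

/-- Over a domain with free cokernels: exact everywhere, or nowhere on a dense open. -/
theorem dichotomy {C D : Type u} [AddCommGroup C] [Module R C] [AddCommGroup D] [Module R D]
    (u : F →ₗ[R] G) (v : G →ₗ[R] H) (π : G →ₗ[R] C) (hπ : Function.Exact u π) (hs : Function.Surjective π)
    (π' : H →ₗ[R] D) (hπ' : Function.Exact v π') (hs' : Function.Surjective π')
    [Module.Free R H] [Module.Free R C] [Module.Free R D] :
    (∀ (T : Type u) [CommRing T] [Algebra R T], Ex T u v) ∨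
      ∃ a : R, a ≠ 0 ∧ ∀ (T : Type u) [CommRing T] [Nontrivial T] [Algebra R T],
        IsUnit (algebraMap R T a) → ¬ Ex T u v := by
  by_cases hvu : ∀ x, v (u x) = 0
  swap
  · push Not at hvu
    obtain ⟨x, hx⟩ := hvu
    obtain ⟨a, ha, hT⟩ := exists_tmul_ne_zero (R := R) hx
    refine Or.inr ⟨a, ha, fun T _ _ _ hu hex => hT T hu ?_⟩
    have := hex.apply_apply_eq_zero ((1 : T) ⊗ₜ[R] x)
    simpa using this
  let e := π.quotKerEquivOfSurjective hs
  let w : C →ₗ[R] H := (π.ker.liftQ v fun y hy => by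
    obtain ⟨x, rfl⟩ := (hπ y).1 (LinearMap.mem_ker.1 hy)
    exact hvu x) ∘ₗ e.symm.toLinearMap
  have hw : ∀ y, w (π y) = v y := fun y => by
    simp only [w, LinearMap.comp_apply, LinearEquiv.coe_coe, show π y = e (Submodule.Quotient.mk y) from rfl,
      e.symm_apply_apply, Submodule.liftQ_apply]
  by_cases hinj : Function.Injective w
  · refine Or.inl fun T _ _ => ?_
    have hexw : Function.Exact w π' := fun z => (hπ' z).trans
      ⟨fun ⟨y, hy⟩ => ⟨π y, (hw y).trans hy⟩, fun ⟨c, hc⟩ => by
        obtain ⟨y, rfl⟩ := hs c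
        exact ⟨y, (hw y).symm.trans hc⟩⟩
    refine Easy4.GenExact.exact_of_injective T u π hπ hs v w (g := 1) (fun y => by rw [hw, one_smul])
      (by rw [map_one]; exact isUnit_one) ?_
    exact LinearMap.lTensor_injective_of_exact_of_flat (R := R) π' hs' w hinj hexw T
  · rw [injective_iff_map_eq_zero] at hinj
    push Not at hinj
    obtain ⟨c, hwc, hc⟩ := hinj
    obtain ⟨a, ha, hT⟩ := exists_tmul_ne_zero (R := R) hc
    obtain ⟨y, rfl⟩ := hs c
    refine Or.inr ⟨a, ha, fun T _ _ _ hu hex => hT T hu ?_⟩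
    obtain ⟨z, hz⟩ := (hex ((1 : T) ⊗ₜ[R] y)).1 (by simp [← hw, hwc])
    have h : Function.Exact (u.lTensor T) (π.lTensor T) := lTensor_exact T hπ hs
    have h1 := h.apply_apply_eq_zero z
    rw [show u.lTensor T z = u.baseChange T z from rfl, hz] at h1
    simpa using h1

theorem exists_surjective_equiv (P : Type u) [CommRing P] [Algebra R P] (M : Type u) [AddCommGroup M] [Module P M]
    [Module R M] [IsScalarTower R P M] [Module.Finite P M] :
    ∃ (m : ℕ) (W : Submodule P (Fin m → P)), Nonempty (((Fin m → P) ⧸ W) ≃ₗ[R] M) := by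
  obtain ⟨m, π, hπ⟩ := Module.Finite.exists_fin' P M
  exact ⟨m, π.ker, ⟨(π.quotKerEquivOfSurjective hπ).restrictScalars R⟩⟩

theorem exists_generic_of_free {C D : Type u} [AddCommGroup C] [Module R C] [AddCommGroup D] [Module R D]
    (u : F →ₗ[R] G) (v : G →ₗ[R] H) (π : G →ₗ[R] C) (hπ : Function.Exact u π) (hs : Function.Surjective π)
    (π' : H →ₗ[R] D) (hπ' : Function.Exact v π') (hs' : Function.Surjective π')
    (q : PrimeSpectrum R) (h : R) (hh : h ∉ q.asIdeal) (S : Type u) [CommRing S] [IsDomain S]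
    [Algebra R S] [Algebra (R ⧸ q.asIdeal) S] [IsScalarTower R (R ⧸ q.asIdeal) S]
    [IsLocalization.Away (Ideal.Quotient.mk q.asIdeal h) S] [Module.Free S (S ⊗[R] H)]
    [Module.Free S (S ⊗[R] C)] [Module.Free S (S ⊗[R] D)] :
    ∃ f : R, f ∉ q.asIdeal ∧ ∀ p : PrimeSpectrum R, q.asIdeal ≤ p.asIdeal → f ∉ p.asIdeal →
      (Ex p.asIdeal.ResidueField u v ↔ Ex q.asIdeal.ResidueField u v) := by
  let R₁ := R ⧸ q.asIdeal
  let hb : R₁ := Ideal.Quotient.mk _ h
  have hd := dichotomy (R := S) (u.baseChange S) (v.baseChange S)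
    (π.baseChange S) (lTensor_exact S hπ hs) (LinearMap.lTensor_surjective S hs)
    (π'.baseChange S) (lTensor_exact S hπ' hs') (LinearMap.lTensor_surjective S hs')
  -- evaluation at a point of the stratum
  have key : ∀ p : PrimeSpectrum R, q.asIdeal ≤ p.asIdeal → h ∉ p.asIdeal →
      ∃ (_ : Algebra S p.asIdeal.ResidueField), IsScalarTower R S p.asIdeal.ResidueField := fun p hp hhp => by
    let g : R₁ →+* p.asIdeal.ResidueField := Ideal.Quotient.lift _ (algebraMap R _) fun a ha =>
      Ideal.algebraMap_residueField_eq_zero.2 (hp ha)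
    have hg : IsUnit (g hb) := isUnit_iff_ne_zero.2 fun e => hhp (Ideal.algebraMap_residueField_eq_zero.1 e)
    letI := (IsLocalization.Away.lift (S := S) hb hg).toAlgebra
    exact ⟨inferInstance, IsScalarTower.of_algebraMap_eq fun r => by
      rw [RingHom.algebraMap_toAlgebra, IsScalarTower.algebraMap_apply R R₁ S, IsLocalization.Away.lift_eq]
      rfl⟩
  rcases hd with hd | ⟨a, ha, hd⟩
  · refine ⟨h, hh, fun p hp hhp => ?_⟩
    obtain ⟨_, _⟩ := key p hp hhp
    obtain ⟨_, _⟩ := key q le_rfl hh
    exact iff_of_true ((ex_baseChange _ _).1 (hd _)) ((ex_baseChange _ _).1 (hd _))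
  · obtain ⟨k, a₁, hk⟩ := IsLocalization.Away.surj hb a
    obtain ⟨a₂, rfl⟩ := Ideal.Quotient.mk_surjective a₁
    have ha₂ : a₂ ∉ q.asIdeal := fun hm => by
      rw [Ideal.Quotient.eq_zero_iff_mem.2 hm, map_zero] at hk
      exact mul_ne_zero ha (pow_ne_zero _ (IsLocalization.Away.algebraMap_isUnit (S := S) hb).ne_zero) hk
    refine ⟨h * a₂, fun hm => (q.2.mem_or_mem hm).elim hh ha₂, fun p hp hfp => ?_⟩
    have hp' : ∀ p' : PrimeSpectrum R, q.asIdeal ≤ p'.asIdeal → h * a₂ ∉ p'.asIdeal →
        ¬ Ex p'.asIdeal.ResidueField u v := fun p' hp' hfp' hex => by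
      obtain ⟨_, _⟩ := key p' hp' fun hm => hfp' (Ideal.mul_mem_right _ _ hm)
      refine hd _ (isUnit_iff_ne_zero.2 fun e => ?_) ((ex_baseChange _ _).2 hex)
      have h2 := congrArg (algebraMap S p'.asIdeal.ResidueField) hk
      rw [map_mul, e, zero_mul, show algebraMap R₁ S (Ideal.Quotient.mk q.asIdeal a₂) = algebraMap R S a₂ from (IsScalarTower.algebraMap_apply R R₁ S a₂).symm,
        ← IsScalarTower.algebraMap_apply] at h2
      exact hfp' (Ideal.mul_mem_left _ _ (Ideal.algebraMap_residueField_eq_zero.1 h2.symm))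
    exact iff_of_false (hp' p hp hfp) (hp' q le_rfl fun hm => (q.2.mem_or_mem hm).elim hh ha₂)

section Noetherian

variable [IsNoetherianRing R] {n : ℕ}
  [Module (MvPolynomial (Fin n) R) F] [IsScalarTower R (MvPolynomial (Fin n) R) F]
  [Module (MvPolynomial (Fin n) R) G] [IsScalarTower R (MvPolynomial (Fin n) R) G]
  [Module (MvPolynomial (Fin n) R) H] [IsScalarTower R (MvPolynomial (Fin n) R) H]
  [Module.Finite (MvPolynomial (Fin n) R) G] [Module.Finite (MvPolynomial (Fin n) R) H]
  (u : F →ₗ[MvPolynomial (Fin n) R] G) (v : G →ₗ[MvPolynomial (Fin n) R] H)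

omit [IsNoetherianRing R] in
/-- The truth value of exactness is generically constant. -/
theorem exists_generic (q : PrimeSpectrum R) :
    ∃ f : R, f ∉ q.asIdeal ∧ ∀ p : PrimeSpectrum R, q.asIdeal ≤ p.asIdeal → f ∉ p.asIdeal →
      (Ex p.asIdeal.ResidueField (u.restrictScalars R) (v.restrictScalars R) ↔
        Ex q.asIdeal.ResidueField (u.restrictScalars R) (v.restrictScalars R)) := by
  classical
  obtain ⟨mH, WH, ⟨eH⟩⟩ := exists_surjective_equiv (R := R) (MvPolynomial (Fin n) R) H
  obtain ⟨mC, WC, ⟨eC⟩⟩ := exists_surjective_equiv (R := R) (MvPolynomial (Fin n) R) (G ⧸ LinearMap.range u)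
  obtain ⟨mD, WD, ⟨eD⟩⟩ := exists_surjective_equiv (R := R) (MvPolynomial (Fin n) R) (H ⧸ LinearMap.range v)
  obtain ⟨h₁, hh₁, hf₁⟩ := FlatModBC.exists_freeOn_notMem (ι := Fin 1) (fun _ => n) (fun _ => mH) (fun _ => WH)
    q.2.isRadical q.2.ne_top
  obtain ⟨h₂, hh₂, hf₂⟩ := FlatModBC.exists_freeOn_notMem (ι := Fin 1) (fun _ => n) (fun _ => mC) (fun _ => WC)
    q.2.isRadical q.2.ne_top
  obtain ⟨h₃, hh₃, hf₃⟩ := FlatModBC.exists_freeOn_notMem (ι := Fin 1) (fun _ => n) (fun _ => mD) (fun _ => WD)
    q.2.isRadical q.2.ne_top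
  let h := h₁ * h₂ * h₃
  have hh : h ∉ q.asIdeal := fun hm => (q.2.mem_or_mem hm).elim
    (fun h' => (q.2.mem_or_mem h').elim hh₁ hh₂) hh₃
  let R₁ := R ⧸ q.asIdeal
  let hb : R₁ := Ideal.Quotient.mk _ h
  have hb0 : hb ≠ 0 := fun e => hh (Ideal.Quotient.eq_zero_iff_mem.1 e)
  let S := Localization.Away hb
  haveI : IsDomain S := IsLocalization.isDomain_localization (powers_le_nonZeroDivisors_of_noZeroDivisors hb0)
  have hJ : q.asIdeal.map (algebraMap R S) = ⊥ := by
    rw [IsScalarTower.algebraMap_eq R R₁ S, ← Ideal.map_map,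
      show q.asIdeal.map (algebraMap R R₁) = ⊥ from Ideal.map_quotient_self _, Ideal.map_bot]
  have hu : IsUnit (algebraMap R S h) := by
    rw [IsScalarTower.algebraMap_apply R R₁ S]
    exact IsLocalization.Away.algebraMap_isUnit hb
  have hu' := hu
  simp only [h, map_mul, IsUnit.mul_iff] at hu'
  haveI : Module.Free S (S ⊗[R] H) :=
    have := hf₁ 0 S hJ hu'.1.1
    Module.Free.of_equiv (eH.baseChange R S _ _)
  haveI : Module.Free S (S ⊗[R] (G ⧸ LinearMap.range u)) :=
    have := hf₂ 0 S hJ hu'.1.2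
    Module.Free.of_equiv (eC.baseChange R S _ _)
  haveI : Module.Free S (S ⊗[R] (H ⧸ LinearMap.range v)) :=
    have := hf₃ 0 S hJ hu'.2
    Module.Free.of_equiv (eD.baseChange R S _ _)
  have h1 : Function.Exact (u.restrictScalars R) ((LinearMap.range u).mkQ.restrictScalars R) := fun y => by
    simp only [LinearMap.restrictScalars_apply]
    exact LinearMap.exact_map_mkQ_range u y
  have h2 : Function.Exact (v.restrictScalars R) ((LinearMap.range v).mkQ.restrictScalars R) := fun y => by
    simp only [LinearMap.restrictScalars_apply]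
    exact LinearMap.exact_map_mkQ_range v y
  have h3 : Function.Surjective ((LinearMap.range u).mkQ.restrictScalars R) := fun z => by
    simp only [LinearMap.restrictScalars_apply]
    exact (LinearMap.range u).mkQ_surjective z
  have h4 : Function.Surjective ((LinearMap.range v).mkQ.restrictScalars R) := fun z => by
    simp only [LinearMap.restrictScalars_apply]
    exact (LinearMap.range v).mkQ_surjective z
  exact exists_generic_of_free (u.restrictScalars R) (v.restrictScalars R) _ h1 h3 _ h2 h4 q h hh S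

/-- **Constructibility of the locus of exact fibres**, noetherian base. -/
theorem isConstructible_setOf_ex :
    Topology.IsConstructible {p : PrimeSpectrum R |
      Ex p.asIdeal.ResidueField (u.restrictScalars R) (v.restrictScalars R)} := by
  classical
  set E := {p : PrimeSpectrum R | Ex p.asIdeal.ResidueField (u.restrictScalars R) (v.restrictScalars R)}
  have hV : ∀ I : Ideal R, Topology.IsConstructible (PrimeSpectrum.zeroLocus (I : Set R)) := fun I => by
    have h := PrimeSpectrum.isRetrocompact_zeroLocus_compl_of_fg (IsNoetherian.noetherian I)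
    simpa using (h.isConstructible (PrimeSpectrum.isClosed_zeroLocus _).isOpen_compl).compl
  suffices key : ∀ I : Ideal R, Topology.IsConstructible (E ∩ PrimeSpectrum.zeroLocus (I : Set R)) by
    simpa using key ⊥
  intro I
  induction I using WellFoundedGT.induction with
  | ind I ih =>
    by_cases htop : I = ⊤
    · simp [htop]
    have hlt : ∀ a, a ∉ I → I < I ⊔ Ideal.span {a} := fun a ha =>
      left_lt_sup.2 fun hle => ha (hle (Ideal.mem_span_singleton_self a))
    have hz : ∀ a, PrimeSpectrum.zeroLocus ((I ⊔ Ideal.span {a} : Ideal R) : Set R) =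
        PrimeSpectrum.zeroLocus (I : Set R) ∩ PrimeSpectrum.zeroLocus {a} := fun a => by
      rw [PrimeSpectrum.zeroLocus_sup, PrimeSpectrum.zeroLocus_span]
    by_cases hI : I.IsPrime
    · obtain ⟨f, hf, hgen⟩ := exists_generic u v ⟨I, hI⟩
      have e : E ∩ PrimeSpectrum.zeroLocus (I : Set R) =
          E ∩ PrimeSpectrum.zeroLocus ((I ⊔ Ideal.span {f} : Ideal R) : Set R) ∪
            (if (⟨I, hI⟩ : PrimeSpectrum R) ∈ E then
              PrimeSpectrum.zeroLocus (I : Set R) ∩ (PrimeSpectrum.basicOpen f : Set (PrimeSpectrum R)) else ∅) := by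
        ext p
        rw [hz]
        by_cases hfp : f ∈ p.asIdeal
        · split_ifs <;> simp [hfp]
        · have := hgen p
          split_ifs with hq <;> simp [hfp, E] at hq ⊢
          · exact fun hI' => (this hI' hfp).2 hq
          · exact fun hex hI' => hq ((this hI' hfp).1 hex)
      rw [e]
      refine (ih _ (hlt f hf)).union ?_
      split_ifs
      · exact (hV I).inter PrimeSpectrum.isConstructible_basicOpen
      · exact Topology.IsConstructible.empty
    · obtain ⟨a, ha, b, hb, hab⟩ := (Ideal.not_isPrime_iff.1 hI).resolve_left htop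
      have e : E ∩ PrimeSpectrum.zeroLocus (I : Set R) =
          E ∩ PrimeSpectrum.zeroLocus ((I ⊔ Ideal.span {a} : Ideal R) : Set R) ∪
            E ∩ PrimeSpectrum.zeroLocus ((I ⊔ Ideal.span {b} : Ideal R) : Set R) := by
        ext p
        have hp : I ≤ p.asIdeal → a ∈ p.asIdeal ∨ b ∈ p.asIdeal := fun hp => p.2.mem_or_mem (hp hab)
        simp only [hz, Set.mem_inter_iff, Set.mem_union, PrimeSpectrum.mem_zeroLocus, SetLike.coe_subset_coe,
          Set.singleton_subset_iff, SetLike.mem_coe]
        tauto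
      rw [e]
      exact (ih _ (hlt a ha)).union (ih _ (hlt b hb))

end Noetherian

end Groth.Agent.FibExact
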