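import Groth.Agent.FibExact.Basic
import Mathlib

/-!
# A noetherian model of a pair of maps of finitely presented modules
-/



universe u

open TensorProduct MvPolynomial

namespace Groth.Agent.FibExact

theorem exists_baseChange_equiv {R₀ R : Type u} [CommRing R₀] [CommRing R] [Algebra R₀ R]
    {n m : ℕ} (s₀ : Set (Fin m → MvPolynomial (Fin n) R₀)) (s : Set (Fin m → MvPolynomial (Fin n) R))
    (himg : (fun v j => MvPolynomial.map (algebraMap R₀ R) (v j)) '' s₀ = s) :
    ∃ e : (R ⊗[R₀] ((Fin m → MvPolynomial (Fin n) R₀) ⧸ Submodule.span (MvPolynomial (Fin n) R₀) s₀))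
      ≃ₗ[R] (Fin m → MvPolynomial (Fin n) R) ⧸ Submodule.span (MvPolynomial (Fin n) R) s,
      ∀ v, e (1 ⊗ₜ[R₀] Submodule.Quotient.mk v) = Submodule.Quotient.mk (fun j => MvPolynomial.map (algebraMap R₀ R) (v j)) := by
  classical
  let ρ : MvPolynomial (Fin n) R₀ →+* MvPolynomial (Fin n) R := MvPolynomial.map (algebraMap R₀ R)
  let U₀ := Submodule.span (MvPolynomial (Fin n) R₀) s₀
  let W := Submodule.span (MvPolynomial (Fin n) R) s
  let M₀ := (Fin m → MvPolynomial (Fin n) R₀) ⧸ U₀
  let ρv : (Fin m → MvPolynomial (Fin n) R₀) →ₗ[R₀] (Fin m → MvPolynomial (Fin n) R) :=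
    { toFun := fun v j => ρ (v j)
      map_add' := fun v w => funext fun j => map_add _ _ _
      map_smul' := fun r v => funext fun j => by
        simp only [Pi.smul_apply, RingHom.id_apply, ρ]
        rw [Algebra.smul_def, map_mul, MvPolynomial.algebraMap_eq, map_C, ← MvPolynomial.smul_eq_C_mul,
          algebraMap_smul] }
  have hρsmul : ∀ t v, ρv (t • v) = ρ t • ρv v := fun t v => funext fun j => by simp [ρv, map_mul]
  have hU₀ : ∀ v ∈ U₀, ρv v ∈ W := by
    intro v hv
    induction hv using Submodule.span_induction with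
    | mem v hv => exact Submodule.subset_span (himg ▸ ⟨v, hv, rfl⟩)
    | zero => rw [map_zero]; exact zero_mem _
    | add a b _ _ ha hb => rw [map_add]; exact add_mem ha hb
    | smul t a _ ha => rw [hρsmul]; exact W.smul_mem _ ha
  let g₀ : ((Fin m → MvPolynomial (Fin n) R₀) ⧸ U₀.restrictScalars R₀) →ₗ[R₀] (Fin m → MvPolynomial (Fin n) R) ⧸ W :=
    (U₀.restrictScalars R₀).liftQ ((W.mkQ.restrictScalars R₀) ∘ₗ ρv) fun v hv =>
      (Submodule.Quotient.mk_eq_zero W).2 (hU₀ v hv)
  let g : M₀ →ₗ[R₀] (Fin m → MvPolynomial (Fin n) R) ⧸ W :=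
    g₀ ∘ₗ (Submodule.Quotient.restrictScalarsEquiv R₀ U₀).symm.toLinearMap
  have hg : ∀ v, g (Submodule.Quotient.mk v) = Submodule.Quotient.mk (ρv v) := fun v => rfl
  let b := Pi.basis fun _ : Fin m => MvPolynomial.basisMonomials (Fin n) R
  let Ψ : (Fin m → MvPolynomial (Fin n) R) →ₗ[R] R ⊗[R₀] M₀ := b.constr R fun i =>
    (1 : R) ⊗ₜ[R₀] Submodule.Quotient.mk (Pi.single i.1 (monomial i.2 1))
  have hb : ∀ j a, b ⟨j, a⟩ = Pi.single j (monomial a 1) := fun j a => by
    rw [Pi.basis_apply, MvPolynomial.coe_basisMonomials]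
  have hΨρ : ∀ v, Ψ (ρv v) = (1 : R) ⊗ₜ[R₀] (Submodule.Quotient.mk v : M₀) := by
    intro v
    let b₀ := Pi.basis fun _ : Fin m => MvPolynomial.basisMonomials (Fin n) R₀
    refine LinearMap.congr_fun (b₀.ext (f₁ := (Ψ.restrictScalars R₀) ∘ₗ ρv)
      (f₂ := (TensorProduct.mk R₀ R M₀ 1) ∘ₗ (U₀.mkQ.restrictScalars R₀)) fun i => ?_) v
    obtain ⟨j, a⟩ := i
    have h1 : b₀ ⟨j, a⟩ = Pi.single j (monomial a 1) := by
      rw [Pi.basis_apply, MvPolynomial.coe_basisMonomials]
    have h2 : ρv (Pi.single j (monomial a 1)) = b ⟨j, a⟩ := by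
      rw [hb]
      funext l
      show ρ ((Pi.single j (monomial a 1) : Fin m → MvPolynomial (Fin n) R₀) l) = _
      by_cases h : l = j
      · subst h; simp [ρ, map_monomial]
      · simp [ρ, Pi.single_eq_of_ne h]
    rw [LinearMap.comp_apply, LinearMap.comp_apply, h1, h2, LinearMap.restrictScalars_apply,
      Module.Basis.constr_basis]
    rfl
  have hΨW : ∀ w ∈ W, Ψ w = 0 := by
    have hgen : ∀ x ∈ s₀, ∀ t : MvPolynomial (Fin n) R, Ψ (t • ρv x) = 0 := by
      intro x hx t
      rw [← t.support_sum_monomial_coeff, Finset.sum_smul, map_sum]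
      refine Finset.sum_eq_zero fun a _ => ?_
      have : monomial a (t.coeff a) • ρv x = t.coeff a • ρv ((monomial a 1 : MvPolynomial (Fin n) R₀) • x) := by
        rw [hρsmul]
        simp only [ρ, map_monomial, map_one, ← smul_assoc, smul_monomial, smul_eq_mul, mul_one]
      rw [this, map_smul, hΨρ,
        show (Submodule.Quotient.mk ((monomial a 1 : MvPolynomial (Fin n) R₀) • x) : M₀) = 0 from
          (Submodule.Quotient.mk_eq_zero U₀).2 (U₀.smul_mem _ (Submodule.subset_span hx)),
        tmul_zero, smul_zero]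
    intro w hw
    suffices ∀ t : MvPolynomial (Fin n) R, Ψ (t • w) = 0 by simpa using this 1
    induction hw using Submodule.span_induction with
    | mem x hx =>
      obtain ⟨x₀, hx₀, rfl⟩ := himg.symm ▸ hx
      exact hgen x₀ hx₀
    | zero => simp
    | add a b _ _ ha hb => intro t; rw [smul_add, map_add, ha, hb, add_zero]
    | smul r a _ ha => intro t; rw [smul_smul]; exact ha _
  let G : R ⊗[R₀] M₀ →ₗ[R] (Fin m → MvPolynomial (Fin n) R) ⧸ W := LinearMap.liftBaseChange R g
  have hG : ∀ v, G (Ψ v) = Submodule.Quotient.mk v := by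
    intro v
    refine LinearMap.congr_fun (b.ext (f₁ := G ∘ₗ Ψ) (f₂ := W.mkQ.restrictScalars R) fun i => ?_) v
    obtain ⟨j, a⟩ := i
    rw [LinearMap.comp_apply, Module.Basis.constr_basis, LinearMap.liftBaseChange_tmul, one_smul, hg,
      hb, LinearMap.restrictScalars_apply, Submodule.mkQ_apply]
    congr 1
    funext l
    show ρ ((Pi.single j (monomial a 1) : Fin m → MvPolynomial (Fin n) R₀) l) = _
    by_cases h : l = j
    · subst h; simp [ρ, map_monomial]
    · simp [ρ, Pi.single_eq_of_ne h]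
  have hGinj : Function.Injective G := by
    let Ψ' : ((Fin m → MvPolynomial (Fin n) R) ⧸ W.restrictScalars R) →ₗ[R] R ⊗[R₀] M₀ := (W.restrictScalars R).liftQ Ψ hΨW
    let Ψ'' : ((Fin m → MvPolynomial (Fin n) R) ⧸ W) →ₗ[R] R ⊗[R₀] M₀ :=
      Ψ' ∘ₗ (Submodule.Quotient.restrictScalarsEquiv R W).symm.toLinearMap
    have : ∀ z, Ψ'' (G z) = z := by
      intro z
      induction z using TensorProduct.induction_on with
      | zero => simp
      | tmul r q =>
        obtain ⟨v, rfl⟩ := Submodule.Quotient.mk_surjective _ q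
        rw [LinearMap.liftBaseChange_tmul, map_smul, hg]
        show r • Ψ (ρv v) = _
        rw [hΨρ, smul_tmul', smul_eq_mul, mul_one]
      | add a b ha hb => simp only [map_add, ha, hb]
    exact Function.LeftInverse.injective this
  exact ⟨LinearEquiv.ofBijective G ⟨hGinj, fun q => by
    obtain ⟨v, rfl⟩ := Submodule.Quotient.mk_surjective _ q
    exact ⟨Ψ v, hG v⟩⟩, fun v => by
      rw [LinearEquiv.ofBijective_apply, LinearMap.liftBaseChange_tmul, one_smul, hg]
      rfl⟩

/-- A matrix model: the map `Pⁿ → Pᵐ` given by the images of the basis. -/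
theorem map_linearCombination {R₀ R : Type u} [CommRing R₀] [CommRing R] (φ : R₀ →+* R) {n a b : ℕ}
    (c : Fin a → Fin b → MvPolynomial (Fin n) R₀) (x : Fin a → MvPolynomial (Fin n) R₀) :
    (fun j => MvPolynomial.map φ (Fintype.linearCombination (MvPolynomial (Fin n) R₀) c x j)) =
      Fintype.linearCombination (MvPolynomial (Fin n) R) (fun i j => MvPolynomial.map φ (c i j))
        (fun i => MvPolynomial.map φ (x i)) := by
  funext j
  simp [Fintype.linearCombination_apply, map_sum]

/-- **Constructibility of the locus of exact fibres.** -/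
theorem isConstructible_of_quotients {R : Type u} [CommRing R] {n a b c : ℕ}
    (sF : Finset (Fin a → MvPolynomial (Fin n) R)) (sG : Finset (Fin b → MvPolynomial (Fin n) R))
    (sH : Finset (Fin c → MvPolynomial (Fin n) R))
    (U : Fin a → Fin b → MvPolynomial (Fin n) R) (V : Fin b → Fin c → MvPolynomial (Fin n) R)
    {F G H : Type u} [AddCommGroup F] [Module R F] [AddCommGroup G] [Module R G] [AddCommGroup H] [Module R H]
    (eF : ((Fin a → MvPolynomial (Fin n) R) ⧸ Submodule.span (MvPolynomial (Fin n) R) (sF : Set _)) ≃ₗ[R] F)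
    (eG : ((Fin b → MvPolynomial (Fin n) R) ⧸ Submodule.span (MvPolynomial (Fin n) R) (sG : Set _)) ≃ₗ[R] G)
    (eH : ((Fin c → MvPolynomial (Fin n) R) ⧸ Submodule.span (MvPolynomial (Fin n) R) (sH : Set _)) ≃ₗ[R] H)
    (hU : ∀ x ∈ sF, Fintype.linearCombination (MvPolynomial (Fin n) R) U x ∈
      Submodule.span (MvPolynomial (Fin n) R) (sG : Set _))
    (hV : ∀ x ∈ sG, Fintype.linearCombination (MvPolynomial (Fin n) R) V x ∈
      Submodule.span (MvPolynomial (Fin n) R) (sH : Set _))
    (u : F →ₗ[R] G) (v : G →ₗ[R] H)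
    (hu : ∀ x, u (eF (Submodule.Quotient.mk x)) =
      eG (Submodule.Quotient.mk (Fintype.linearCombination (MvPolynomial (Fin n) R) U x)))
    (hv : ∀ x, v (eG (Submodule.Quotient.mk x)) =
      eH (Submodule.Quotient.mk (Fintype.linearCombination (MvPolynomial (Fin n) R) V x))) :
    Topology.IsConstructible {p : PrimeSpectrum R | Ex p.asIdeal.ResidueField u v} := by
  classical
  let co : MvPolynomial (Fin n) R → Finset R := fun p => p.support.image fun α => p.coeff α
  let cv : ∀ {m : ℕ}, (Fin m → MvPolynomial (Fin n) R) → Finset R := fun x => Finset.univ.biUnion fun j => co (x j)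
  let cs : Finset R := sF.biUnion cv ∪ sG.biUnion cv ∪ sH.biUnion cv ∪ (Finset.univ.biUnion fun i => cv (U i)) ∪
    Finset.univ.biUnion fun i => cv (V i)
  let R₀ := Algebra.adjoin ℤ (cs : Set R)
  haveI : Algebra.FiniteType ℤ R₀ := (Subalgebra.fg_iff_finiteType R₀).1 (Subalgebra.fg_adjoin_finset cs)
  haveI : IsNoetherianRing R₀ := Algebra.FiniteType.isNoetherianRing ℤ R₀
  let φ := algebraMap R₀ R
  have hlift : ∀ {m : ℕ} (x : Fin m → MvPolynomial (Fin n) R), cv x ⊆ cs →
      ∃ x₀ : Fin m → MvPolynomial (Fin n) R₀, (fun j => MvPolynomial.map φ (x₀ j)) = x := by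
    intro m x hx
    have : ∀ j, x j ∈ (MvPolynomial.map (σ := Fin n) φ).range := fun j => by
      rw [← (x j).support_sum_monomial_coeff]
      refine Subring.sum_mem _ fun α hα => ?_
      have hc : (x j).coeff α ∈ R₀ := Algebra.subset_adjoin (hx (Finset.mem_biUnion.2
        ⟨j, Finset.mem_univ _, Finset.mem_image_of_mem _ hα⟩))
      exact ⟨monomial α ⟨_, hc⟩, by simp [φ, map_monomial]⟩
    choose x₀ hx₀ using this
    exact ⟨x₀, funext hx₀⟩
  choose lF hlF using fun x : sF => hlift x.1 ((Finset.subset_biUnion_of_mem cv x.2).trans (by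
    simp only [cs, Finset.union_assoc]; exact Finset.subset_union_left))
  choose lG hlG using fun x : sG => hlift x.1 ((Finset.subset_biUnion_of_mem cv x.2).trans
    (fun r hr => by simp only [cs, Finset.mem_union]; tauto))
  choose lH hlH using fun x : sH => hlift x.1 ((Finset.subset_biUnion_of_mem cv x.2).trans
    (fun r hr => by simp only [cs, Finset.mem_union]; tauto))
  choose lU hlU using fun i => hlift (U i) (fun r hr => by
    simp only [cs, Finset.mem_union, Finset.mem_biUnion, Finset.mem_univ, true_and]; tauto)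
  choose lV hlV using fun i => hlift (V i) (fun r hr => by
    simp only [cs, Finset.mem_union, Finset.mem_biUnion, Finset.mem_univ, true_and]; tauto)
  let U₀ := Fintype.linearCombination (MvPolynomial (Fin n) R₀) lU
  let V₀ := Fintype.linearCombination (MvPolynomial (Fin n) R₀) lV
  have hρU : ∀ x, (fun j => MvPolynomial.map φ (U₀ x j)) =
      Fintype.linearCombination (MvPolynomial (Fin n) R) U (fun i => MvPolynomial.map φ (x i)) := fun x => by
    rw [map_linearCombination, show (fun i j => MvPolynomial.map φ (lU i j)) = U from funext hlU]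
  have hρV : ∀ x, (fun j => MvPolynomial.map φ (V₀ x j)) =
      Fintype.linearCombination (MvPolynomial (Fin n) R) V (fun i => MvPolynomial.map φ (x i)) := fun x => by
    rw [map_linearCombination, show (fun i j => MvPolynomial.map φ (lV i j)) = V from funext hlV]
  let tF : Set (Fin a → MvPolynomial (Fin n) R₀) := Set.range lF
  let tG : Set (Fin b → MvPolynomial (Fin n) R₀) := Set.range lG ∪ U₀ '' tF
  let tH : Set (Fin c → MvPolynomial (Fin n) R₀) := Set.range lH ∪ V₀ '' tG
  obtain ⟨εF, hεF⟩ := exists_baseChange_equiv (R := R) (R₀ := R₀) tF _ rfl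
  obtain ⟨εG, hεG⟩ := exists_baseChange_equiv (R := R) (R₀ := R₀) tG _ rfl
  obtain ⟨εH, hεH⟩ := exists_baseChange_equiv (R := R) (R₀ := R₀) tH _ rfl
  have sameF : Submodule.span (MvPolynomial (Fin n) R)
      ((fun v j => MvPolynomial.map φ (v j)) '' tF) = Submodule.span _ (sF : Set _) := by
    congr 1
    ext x
    exact ⟨by rintro ⟨_, ⟨y, rfl⟩, rfl⟩; simp only [hlF y]; exact y.2, fun hx => ⟨_, ⟨⟨x, hx⟩, rfl⟩, hlF ⟨x, hx⟩⟩⟩
  have sameG : Submodule.span (MvPolynomial (Fin n) R)
      ((fun v j => MvPolynomial.map φ (v j)) '' tG) = Submodule.span _ (sG : Set _) := by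
    refine le_antisymm (Submodule.span_le.2 ?_) (Submodule.span_mono fun x hx =>
      ⟨_, Or.inl ⟨⟨x, hx⟩, rfl⟩, hlG ⟨x, hx⟩⟩)
    rintro _ ⟨_, ⟨y, rfl⟩ | ⟨_, ⟨y, rfl⟩, rfl⟩, rfl⟩
    · exact Submodule.subset_span (by simp only [hlG y]; exact y.2)
    · simp only [hρU]
      rw [show (fun i => MvPolynomial.map φ (lF y i)) = y.1 from hlF y]
      exact hU _ y.2
  have hVle : ∀ x ∈ Submodule.span (MvPolynomial (Fin n) R) (sG : Set _),
      Fintype.linearCombination (MvPolynomial (Fin n) R) V x ∈ Submodule.span (MvPolynomial (Fin n) R) (sH : Set _) :=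
    fun x hx => Submodule.span_le (p := (Submodule.span (MvPolynomial (Fin n) R) (sH : Set (Fin c → MvPolynomial (Fin n) R))).comap
      (Fintype.linearCombination (MvPolynomial (Fin n) R) V)).2 (fun z hz => hV z hz) hx
  have sameH : Submodule.span (MvPolynomial (Fin n) R)
      ((fun v j => MvPolynomial.map φ (v j)) '' tH) = Submodule.span _ (sH : Set _) := by
    refine le_antisymm (Submodule.span_le.2 ?_) (Submodule.span_mono fun x hx =>
      ⟨_, Or.inl ⟨⟨x, hx⟩, rfl⟩, hlH ⟨x, hx⟩⟩)
    rintro _ ⟨_, ⟨y, rfl⟩ | ⟨y, hy, rfl⟩, rfl⟩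
    · exact Submodule.subset_span (by simp only [hlH y]; exact y.2)
    · simp only [hρV]
      exact hVle _ (sameG ▸ Submodule.subset_span ⟨y, hy, rfl⟩)
  let u₀ := (Submodule.span (MvPolynomial (Fin n) R₀) tF).mapQ (Submodule.span _ tG) U₀
    (Submodule.span_le.2 fun x hx => Submodule.subset_span (Or.inr ⟨x, hx, rfl⟩))
  let v₀ := (Submodule.span (MvPolynomial (Fin n) R₀) tG).mapQ (Submodule.span _ tH) V₀
    (Submodule.span_le.2 fun x hx => Submodule.subset_span (Or.inr ⟨x, hx, rfl⟩))
  let κF := εF.trans ((Submodule.quotEquivOfEq _ _ sameF).restrictScalars R) |>.trans eF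
  let κG := εG.trans ((Submodule.quotEquivOfEq _ _ sameG).restrictScalars R) |>.trans eG
  let κH := εH.trans ((Submodule.quotEquivOfEq _ _ sameH).restrictScalars R) |>.trans eH
  have kF : ∀ x, κF (1 ⊗ₜ Submodule.Quotient.mk x) = eF (Submodule.Quotient.mk fun j => MvPolynomial.map φ (x j)) :=
    fun x => by simp [κF, hεF, φ]
  have kG : ∀ x, κG (1 ⊗ₜ Submodule.Quotient.mk x) = eG (Submodule.Quotient.mk fun j => MvPolynomial.map φ (x j)) :=
    fun x => by simp [κG, hεG, φ]
  have kH : ∀ x, κH (1 ⊗ₜ Submodule.Quotient.mk x) = eH (Submodule.Quotient.mk fun j => MvPolynomial.map φ (x j)) :=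
    fun x => by simp [κH, hεH, φ]
  have hku : u ∘ₗ κF.toLinearMap = κG.toLinearMap ∘ₗ (u₀.restrictScalars R₀).baseChange R := by
    refine TensorProduct.AlgebraTensorModule.ext fun r z => ?_
    obtain ⟨x, rfl⟩ := Submodule.Quotient.mk_surjective _ z
    rw [show r ⊗ₜ[R₀] (Submodule.Quotient.mk x) = r • ((1 : R) ⊗ₜ[R₀] Submodule.Quotient.mk x) by
      rw [smul_tmul', smul_eq_mul, _root_.mul_one], map_smul, map_smul]
    congr 1
    simp only [LinearMap.comp_apply, LinearEquiv.coe_coe, LinearMap.baseChange_tmul,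
      LinearMap.restrictScalars_apply, u₀, Submodule.mapQ_apply]
    rw [kF, kG, hu, hρU]
  have hkv : v ∘ₗ κG.toLinearMap = κH.toLinearMap ∘ₗ (v₀.restrictScalars R₀).baseChange R := by
    refine TensorProduct.AlgebraTensorModule.ext fun r z => ?_
    obtain ⟨x, rfl⟩ := Submodule.Quotient.mk_surjective _ z
    rw [show r ⊗ₜ[R₀] (Submodule.Quotient.mk x) = r • ((1 : R) ⊗ₜ[R₀] Submodule.Quotient.mk x) by
      rw [smul_tmul', smul_eq_mul, _root_.mul_one], map_smul, map_smul]
    congr 1
    simp only [LinearMap.comp_apply, LinearEquiv.coe_coe, LinearMap.baseChange_tmul,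
      LinearMap.restrictScalars_apply, v₀, Submodule.mapQ_apply]
    rw [kG, kH, hv, hρV]
  have hset : {p : PrimeSpectrum R | Ex p.asIdeal.ResidueField u v} = PrimeSpectrum.comap φ ⁻¹'
      {q : PrimeSpectrum R₀ | Ex q.asIdeal.ResidueField (u₀.restrictScalars R₀) (v₀.restrictScalars R₀)} := by
    ext p
    let q := PrimeSpectrum.comap φ p
    let κ := p.asIdeal.ResidueField
    letI : Algebra q.asIdeal.ResidueField κ :=
      (Ideal.ResidueField.map q.asIdeal p.asIdeal φ rfl).toAlgebra
    haveI : IsScalarTower R₀ q.asIdeal.ResidueField κ := IsScalarTower.of_algebraMap_eq fun r =>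
      (Ideal.ResidueField.map_algebraMap _ _ _ rfl r).symm
    refine Iff.trans ?_ (ex_field (k := q.asIdeal.ResidueField) (T := κ) (u₀.restrictScalars R₀) (v₀.restrictScalars R₀))
    rw [← ex_baseChange (S := R)]
    refine Function.Exact.iff_of_ladder_linearEquiv (e₁ := κF.baseChange R κ _ _) (e₂ := κG.baseChange R κ _ _)
      (e₃ := κH.baseChange R κ _ _) ?_ ?_
    · refine LinearMap.ext fun y => ?_
      show u.baseChange κ (κF.toLinearMap.baseChange κ y) = κG.toLinearMap.baseChange κ (((u₀.restrictScalars R₀).baseChange R).baseChange κ y)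
      rw [← LinearMap.comp_apply, ← LinearMap.baseChange_comp, hku, LinearMap.baseChange_comp, LinearMap.comp_apply]
    · refine LinearMap.ext fun y => ?_
      show v.baseChange κ (κG.toLinearMap.baseChange κ y) = κH.toLinearMap.baseChange κ (((v₀.restrictScalars R₀).baseChange R).baseChange κ y)
      rw [← LinearMap.comp_apply, ← LinearMap.baseChange_comp, hkv, LinearMap.baseChange_comp, LinearMap.comp_apply]
  rw [hset]
  refine (isConstructible_setOf_ex u₀ v₀).preimage (PrimeSpectrum.continuous_comap φ) fun s hs hc => ?_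
  obtain ⟨t, rfl⟩ := PrimeSpectrum.isCompact_isOpen_iff.1
    ⟨(QuasiSeparatedSpace.isRetrocompact_iff_isCompact hs).1 hc, hs⟩
  rw [Set.preimage_compl, PrimeSpectrum.preimage_comap_zeroLocus]
  exact PrimeSpectrum.isRetrocompact_zeroLocus_compl (t.finite_toSet.image _)

end Groth.Agent.FibExact
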